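import Mathlib.AlgebraicGeometry.Properties
import Mathlib.RingTheory.Ideal.GoingUp
import Mathlib.Topology.Sober
import Mathlib.Topology.KrullDimension

/-!
# Open morphisms lift generalisations
-/

universe u

open CategoryTheory AlgebraicGeometry TopologicalSpace

namespace GrothLib.GenMap

/-- Going down for a ring map whose map of spectra is open. -/
theorem exists_le_comap_eq {B A : Type u} [CommRing B] [CommRing A] (φ : B →+* A)
    (ho : IsOpenMap (PrimeSpectrum.comap φ)) (P : PrimeSpectrum A) (q : PrimeSpectrum B)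
    (h : q ⤳ PrimeSpectrum.comap φ P) :
    ∃ P' : PrimeSpectrum A, P' ⤳ P ∧ PrimeSpectrum.comap φ P' = q := by
  let L := Localization.AtPrime P.asIdeal
  let ψ : B →+* L := (algebraMap A L).comp φ
  have key : (q.asIdeal.map ψ).comap ψ = q.asIdeal := by
    refine le_antisymm (fun b hb ↦ ?_) Ideal.le_comap_map
    rw [Ideal.mem_comap, ← Ideal.map_map] at hb
    obtain ⟨s, hs, hsb⟩ := (IsLocalization.algebraMap_mem_map_algebraMap_iff
      P.asIdeal.primeCompl _ _ _).1 hb
    by_contra hbq
    have hopen : IsOpen (PrimeSpectrum.comap φ '' (PrimeSpectrum.basicOpen s : Set (PrimeSpectrum A))) :=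
      ho _ (PrimeSpectrum.basicOpen s).isOpen
    obtain ⟨R, hRs, hR⟩ := h.mem_open hopen ⟨P, hs, rfl⟩
    have h1 : q.asIdeal.map φ ≤ R.asIdeal := by
      rw [Ideal.map_le_iff_le_comap, ← hR]
      rfl
    rcases R.isPrime.mem_or_mem (h1 hsb) with h2 | h2
    · exact hRs h2
    · exact hbq (by rw [← hR]; exact h2)
  obtain ⟨Q, hQ, hQeq⟩ := (Ideal.comap_map_eq_self_iff_of_isPrime (f := ψ) q.asIdeal).1 key
  refine ⟨⟨Q.comap (algebraMap A L), inferInstance⟩, ?_, ?_⟩
  · rw [← PrimeSpectrum.le_iff_specializes]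
    intro a ha
    by_contra haP
    exact hQ.ne_top (Ideal.eq_top_of_isUnit_mem _ ha
      (IsLocalization.map_units L (⟨a, haP⟩ : P.asIdeal.primeCompl)))
  · ext1
    rw [PrimeSpectrum.comap_asIdeal, Ideal.comap_comap]
    exact hQeq

theorem generalizingMap_of_isOpenMap {X Y : Scheme.{u}} (f : X ⟶ Y) (hf : IsOpenMap f) :
    GeneralizingMap f := by
  intro x y hy
  obtain ⟨V, hV, hxV, -⟩ := exists_isAffineOpen_mem_and_subset (x := f x) (U := (⊤ : Y.Opens)) trivial
  obtain ⟨U, hU, hxU, hUV⟩ := exists_isAffineOpen_mem_and_subset (x := x) (U := f ⁻¹ᵁ V) hxV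
  let φ := f.appLE V U hUV
  have hcomm := IsAffineOpen.SpecMap_appLE_fromSpec f hV hU hUV
  have hc : ∀ p, hV.fromSpec (Spec.map φ p) = f (hU.fromSpec p) := fun p ↦ by
    have := congrArg (fun g : Spec Γ(X, U) ⟶ Y ↦ g p) hcomm
    simpa [φ] using this
  have ho : IsOpenMap (PrimeSpectrum.comap φ.hom) := by
    intro T hT
    have h1 : IsOpen (f '' (hU.fromSpec '' T)) := hf _ (hU.fromSpec.isOpenEmbedding.isOpenMap _ hT)
    have : PrimeSpectrum.comap φ.hom '' T = hV.fromSpec ⁻¹' (f '' (hU.fromSpec '' T)) := by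
      ext r
      constructor
      · rintro ⟨p, hp, rfl⟩
        exact ⟨_, ⟨p, hp, rfl⟩, (hc p).symm⟩
      · rintro ⟨_, ⟨p, hp, rfl⟩, hr⟩
        exact ⟨p, hp, hV.fromSpec.isOpenEmbedding.injective ((hc p).trans hr)⟩
    rw [this]
    exact h1.preimage hV.fromSpec.continuous
  obtain ⟨P, hP⟩ : x ∈ Set.range hU.fromSpec := hU.range_fromSpec.symm ▸ hxU
  have hyV : y ∈ V := hy.mem_open V.isOpen hxV
  obtain ⟨q, hq⟩ : y ∈ Set.range hV.fromSpec := hV.range_fromSpec.symm ▸ hyV
  have hspec : q ⤳ PrimeSpectrum.comap φ.hom P := by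
    refine (hV.fromSpec.isOpenEmbedding.isInducing.specializes_iff).1 ?_
    rw [hq]
    exact (congrArg (fun z ↦ y ⤳ z) ((hc P).trans (by rw [hP]))).mpr hy
  obtain ⟨P', hP', hq'⟩ := exists_le_comap_eq φ.hom ho P q hspec
  refine ⟨hU.fromSpec P', hP ▸ hP'.map hU.fromSpec.continuous, ?_⟩
  exact ((hc P').symm.trans (congrArg hV.fromSpec hq')).trans hq

theorem krullDim_range_le {X Y : Scheme.{u}} (f : X ⟶ Y) (hf : IsOpenMap f) :
    topologicalKrullDim (Set.range f) ≤ topologicalKrullDim X := by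
  have : QuasiSober (Set.range f) :=
    (hf.isOpen_range.isOpenEmbedding_subtypeVal).quasiSober
  let e : IrreducibleCloseds (Set.range f) ≃o Set.range f :=
    { toEquiv := (irreducibleSetEquivPoints (α := Set.range f)).toEquiv
      map_rel_iff' := fun {a b} ↦
        (subtype_specializes_iff _ _).symm.trans (irreducibleSetEquivPoints (α := Set.range f)).map_rel_iff' }
  rw [topologicalKrullDim, topologicalKrullDim, Order.krullDim_eq_of_orderIso e,
    Order.krullDim_eq_of_orderIso (irreducibleSetEquivPoints (α := X))]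
  have key : ∀ l : LTSeries (Set.range f), ∃ m : LTSeries X, m.length = l.length ∧
      f m.last = l.last.1 := by
    intro l
    induction l using RelSeries.inductionOn' with
    | singleton a =>
      obtain ⟨x, hx⟩ := a.2
      exact ⟨RelSeries.singleton _ x, rfl, by simpa using hx⟩
    | snoc l a ha ih =>
      obtain ⟨m, hm, hml⟩ := ih
      have hlt : l.last < a := ha
      have hsp : (a : Y) ⤳ l.last.1 := hlt.le
      obtain ⟨x, hx, hxa⟩ := generalizingMap_of_isOpenMap f hf (hml ▸ hsp)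
      have hne : m.last < x := by
        refine lt_of_le_not_ge hx fun h ↦ hlt.not_ge ?_
        have h' : f m.last ⤳ f x := Specializes.map h f.continuous
        rw [hml, hxa] at h'
        exact h'
      exact ⟨m.snoc x hne, by simp [hm], by simpa using hxa⟩
  refine iSup_le fun l ↦ ?_
  obtain ⟨m, hm, -⟩ := key l
  exact hm ▸ Order.LTSeries.length_le_krullDim m

end GrothLib.GenMap
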