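import Mathlib.AlgebraicGeometry.Noetherian
import Mathlib.AlgebraicGeometry.Properties
import Mathlib.RingTheory.Spectrum.Prime.ConstructibleSet

/-!
# Generalizing maps and irreducible components
-/

set_option autoImplicit false

universe u

open AlgebraicGeometry CategoryTheory TopologicalSpace Topology

namespace GrothLib.GenMap

section Top

variable {X Y : Type*} [TopologicalSpace X] [TopologicalSpace Y]

/-- A closed irreducible component is the closure of a point with no strict generization. -/
lemma eq_of_specializes_genericPoint [T0Space X] {T : Set X} (hT : T ∈ irreducibleComponents X)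
    {η x : X} (hη : IsGenericPoint η T) (hx : x ⤳ η) : x = η := by
  have hsub : T ⊆ closure {x} := by
    rw [← hη.def]
    exact specializes_iff_closure_subset.1 hx
  have heq : closure {x} = T :=
    subset_antisymm (hT.2 isIrreducible_singleton.closure hsub) hsub
  exact IsGenericPoint.eq (show IsGenericPoint x T from heq) hη

/-- A point with no strict generization is the generic point of a component. -/
lemma closure_mem_irreducibleComponents [QuasiSober X] {y : X}
    (h : ∀ z, z ⤳ y → z = y) : closure {y} ∈ irreducibleComponents X := by
  refine ⟨isIrreducible_singleton.closure, fun Z hZ hle ↦ ?_⟩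
  have hg := hZ.isGenericPoint_genericPoint_closure
  have hy : hZ.genericPoint ⤳ y :=
    hg.specializes (subset_closure (hle (subset_closure (Set.mem_singleton y))))
  intro z hz
  have := hg.specializes (subset_closure hz)
  rw [h _ hy] at this
  exact this.mem_closure

/-- Generalizing maps send generic points of components to generic points of components. -/
lemma closure_singleton_map_mem [T0Space X] [QuasiSober X] [QuasiSober Y] {f : X → Y}
    (hf : GeneralizingMap f) {T : Set X} (hT : T ∈ irreducibleComponents X) {η : X}
    (hη : IsGenericPoint η T) : closure {f η} ∈ irreducibleComponents Y := by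
  refine closure_mem_irreducibleComponents fun z hz ↦ ?_
  obtain ⟨x', hx', rfl⟩ := hf hz
  rw [eq_of_specializes_genericPoint hT hη hx']

lemma closure_image_mem [T0Space X] [QuasiSober X] [QuasiSober Y] {f : X → Y}
    (hc : Continuous f) (hf : GeneralizingMap f) {T : Set X}
    (hT : T ∈ irreducibleComponents X) : closure (f '' T) ∈ irreducibleComponents Y := by
  have hη : IsGenericPoint hT.1.genericPoint T :=
    hT.1.isGenericPoint_genericPoint (isClosed_of_mem_irreducibleComponents T hT)
  have h1 := (hη.image hc).def
  rw [← h1]
  exact closure_singleton_map_mem hf hT hη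

lemma irreducibleSpace_of_generalizing [QuasiSober Y] [IrreducibleSpace Y] {f : X → Y}
    (hf : GeneralizingMap f) (h : IsIrreducible (f ⁻¹' {genericPoint Y})) :
    IrreducibleSpace X := by
  have huniv : closure (f ⁻¹' {genericPoint Y}) = Set.univ := by
    refine Set.eq_univ_of_forall fun x ↦ ?_
    obtain ⟨x', hx', hfx'⟩ := hf (genericPoint_specializes (f x))
    exact closure_mono (Set.singleton_subset_iff.2 (show x' ∈ f ⁻¹' {genericPoint Y} from hfx'))
      hx'.mem_closure
  have hu : IsIrreducible (Set.univ : Set X) := huniv ▸ h.closure
  have : Nonempty X := ⟨h.1.choose⟩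
  exact { isPreirreducible_univ := hu.2, toNonempty := this }

/-- Finitely many components near a point, for a generalizing map with finite fibres. -/
lemma locallyFinite_components [T0Space X] [T0Space Y] [QuasiSober X] [QuasiSober Y] {f : X → Y}
    (hc : Continuous f) (hf : GeneralizingMap f) (hfin : ∀ y, (f ⁻¹' {y}).Finite)
    {U : Set Y} (hU : {Z ∈ irreducibleComponents Y | (Z ∩ U).Nonempty}.Finite) :
    {T ∈ irreducibleComponents X | (T ∩ f ⁻¹' U).Nonempty}.Finite := by
  let S : Set Y := {y | closure {y} ∈ {Z ∈ irreducibleComponents Y | (Z ∩ U).Nonempty}}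
  have hS : S.Finite := by
    refine Set.Finite.of_finite_image (f := fun y ↦ closure ({y} : Set Y)) ?_ ?_
    · exact hU.subset (Set.image_subset_iff.2 fun y hy ↦ hy)
    · intro a _ b _ hab
      exact IsGenericPoint.eq (show IsGenericPoint a (closure {b}) from hab)
        isGenericPoint_closure
  have hpre : (f ⁻¹' S).Finite := hS.preimage' fun y _ ↦ hfin y
  refine (hpre.image fun x ↦ closure ({x} : Set X)).subset ?_
  rintro T ⟨hT, x, hxT, hxU⟩
  have hη : IsGenericPoint hT.1.genericPoint T :=
    hT.1.isGenericPoint_genericPoint (isClosed_of_mem_irreducibleComponents T hT)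
  refine ⟨hT.1.genericPoint, ⟨closure_singleton_map_mem hf hT hη, ?_⟩, hη.def⟩
  exact ⟨f x, ((hη.specializes hxT).map hc).mem_closure, hxU⟩

end Top

/-- A closed subset stable under generization is open on a locally Noetherian scheme. -/
lemma isOpen_of_isClosed {Y : Scheme.{u}} [IsLocallyNoetherian Y]
    (W : Set Y) (hW : IsClosed W) (hgen : StableUnderGeneralization W) : IsOpen W := by
  rw [isOpen_iff_forall_mem_open]
  intro y hy
  obtain ⟨U, hU, hyU, -⟩ := exists_isAffineOpen_mem_and_subset (x := y) (U := ⊤) trivial
  have : IsNoetherianRing Γ(Y, U) := IsLocallyNoetherian.component_noetherian ⟨U, hU⟩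
  let e := hU.fromSpec
  have hcl : IsClosed (e.base ⁻¹' W) := hW.preimage e.continuous
  have hg : StableUnderGeneralization (e.base ⁻¹' W) := fun a b hab ha ↦
    hgen (hab.map e.continuous) ha
  have hcons : IsConstructible (e.base ⁻¹' W) :=
    IsConstructible.of_compl ((NoetherianSpace.isCompact
      (α := PrimeSpectrum Γ(Y, U)) _).isConstructible hcl.isOpen_compl)
  have hopen := PrimeSpectrum.isOpen_of_stableUnderGeneralization_of_isConstructible hg hcons
  refine ⟨e.base '' (e.base ⁻¹' W), Set.image_preimage_subset _ _,
    e.isOpenEmbedding.isOpenMap _ hopen, ?_⟩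
  have : y ∈ Set.range e.base := by rw [hU.range_fromSpec]; exact hyU
  obtain ⟨p, rfl⟩ := this
  exact ⟨p, hy, rfl⟩

lemma image_connectedComponent {X Y : Scheme.{u}} [IsLocallyNoetherian Y]
    (f : X ⟶ Y) (hc : IsClosedMap f.base) (hg : GeneralizingMap f.base) (x : X) :
    f.base '' connectedComponent x = connectedComponent (f.base x) := by
  have hgenC : StableUnderGeneralization (connectedComponent x) := by
    intro a b hab ha
    rw [connectedComponent_eq ha]
    exact isIrreducible_singleton.closure.isPreirreducible.isPreconnected.subset_connectedComponent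
      hab.mem_closure (subset_closure (Set.mem_singleton b))
  have hWgen : StableUnderGeneralization (f.base '' connectedComponent x) := by
    rintro a b hab ⟨z, hz, rfl⟩
    obtain ⟨z', hz', rfl⟩ := hg hab
    exact ⟨z', hgenC hz' hz, rfl⟩
  have hWcl : IsClosed (f.base '' connectedComponent x) := hc _ isClosed_connectedComponent
  have hW : IsClopen (f.base '' connectedComponent x) := ⟨hWcl, isOpen_of_isClosed _ hWcl hWgen⟩
  exact subset_antisymm (f.continuous.image_connectedComponent_subset x)
    (hW.connectedComponent_subset ⟨x, mem_connectedComponent, rfl⟩)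

end GrothLib.GenMap
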